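import Groth.Agent.RepF.K654.StalkPull
import Groth.Agent.Dcoh.FreeLocus
import Groth.Agent.PerfC.PCCover
import Groth.Agent.CycB.FiberKer

/-!
# Monomorphisms with finite locally free cokernel
-/

set_option autoImplicit false
universe u

open CategoryTheory CategoryTheory.Limits AlgebraicGeometry TopologicalSpace
open Groth.Agent.CycB.StalkExact Groth.Agent.Fdesc.PullbackStalk Groth.Agent.PerfC.FlatExact
open Groth.Agent.Ega1.FTStalkFin K654.StalkPull
open Groth.Agent.Dcoh.StalkFF Groth.Agent.Dcoh.LocalD
open scoped TensorProduct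

namespace K654.MonoLF

variable {X Y : Scheme.{u}}

/-- The cokernel of a map from a finite type module to a finite locally free module is finite free
near every point where its stalk is finite free. -/
theorem exists_free_cokernel {U E : X.Modules} (hU : CohB1.IsFT U) (hE : FlatMod.IsFinLocFree E)
    (ι : U ⟶ E) (x : X) (hx : FF (cokernel ι) x) :
    ∃ (W : Scheme.{u}) (j : W ⟶ X) (_ : IsOpenImmersion j) (n : ℕ), x ∈ Set.range j ∧
      Nonempty ((cokernel ι).restrict j ≅ FlatMod.freeMod W n) := by
  obtain ⟨V, n, q, hxV, hq⟩ := Groth.Agent.PerfC.PCCover.exists_epi_of_isFT hU x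
  have w0 := cokernel.condition ι
  have hcok := CokernelCofork.mapIsColimit _ (cokernelIsCokernel ι)
    (Scheme.Modules.restrictFunctor V.ι)
  let ι' : U.restrict V.ι ⟶ E.restrict V.ι := (Scheme.Modules.restrictFunctor V.ι).map ι
  let π' : E.restrict V.ι ⟶ (cokernel ι).restrict V.ι :=
    (Scheme.Modules.restrictFunctor V.ι).map (cokernel.π ι)
  have w' : ι' ≫ π' = 0 := by
    simp only [ι', π']
    rw [← Functor.map_comp, w0, Functor.map_zero]
  have hcok' : IsColimit (CokernelCofork.ofπ π' w') := hcok
  have w'' : (q ≫ ι') ≫ π' = 0 := by rw [Category.assoc, w', comp_zero]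
  have hcok'' : IsColimit (CokernelCofork.ofπ π' w'') := isCokernelEpiComp hcok' q rfl
  obtain ⟨W, j, hj, m, ⟨y, hy⟩, ⟨e⟩⟩ := Groth.Agent.Dcoh.Spread.exists_free_of_cokernel
    (Groth.Agent.Dcoh.ResFree.isFinLocFree_freeMod n) (isFinLocFree_restrict E V.ι hE)
    (q ≫ ι') π' w'' hcok'' ⟨x, hxV⟩ (by
      have h := ((FF_restrict_iff V.ι (cokernel ι) ⟨x, hxV⟩).2 hx).1
      exact (inferInstance : Module.Flat (V.toScheme.presheaf.stalk ⟨x, hxV⟩)
        (((cokernel ι).restrict V.ι).presheaf.stalk ⟨x, hxV⟩)))
  refine ⟨W, j ≫ V.ι, inferInstance, m, ⟨y, ?_⟩,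
    ⟨(Scheme.Modules.restrictFunctorComp j V.ι).app (cokernel ι) ≪≫ e⟩⟩
  rw [Scheme.Hom.comp_apply, hy]
  rfl

theorem isFinLocFree_cokernel {U E : X.Modules} (hU : CohB1.IsFT U) (hE : FlatMod.IsFinLocFree E)
    (ι : U ⟶ E) (hx : ∀ x, FF (cokernel ι) x) : FlatMod.IsFinLocFree (cokernel ι) := by
  rw [isFinLocFree_iff]
  exact fun x => exists_free_cokernel hU hE ι x (hx x)

theorem stalk_cokernel_exact {M N : X.Modules} (φ : M ⟶ N) (x : X) :
    Function.Exact (stalkLin φ x) (stalkLin (cokernel.π φ) x) :=
  stalkLin_exact _ (ShortComplex.exact_of_g_is_cokernel _ (cokernelIsCokernel φ) :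
    (ShortComplex.mk φ (cokernel.π φ) (cokernel.condition φ)).Exact) x

/-- Algebra: a split injection into a finite free module over a local ring has free cokernel. -/
theorem free_of_exact_split {R M N C : Type*} [CommRing R] [IsLocalRing R] [AddCommGroup M]
    [Module R M] [AddCommGroup N] [Module R N] [AddCommGroup C] [Module R C] [Module.Free R N]
    [Module.Finite R N] (i : M →ₗ[R] N) (p : N →ₗ[R] C) (h : Function.Exact i p)
    (hp : Function.Surjective p) (r : N →ₗ[R] M) (hr : r ∘ₗ i = LinearMap.id) :
    Module.Free R C ∧ Module.Finite R C := by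
  have hfin : Module.Finite R C := Module.Finite.of_surjective p hp
  -- the map `id - i r` factors through `C`
  have hs : ∃ s : C →ₗ[R] N, s ∘ₗ p = LinearMap.id - i ∘ₗ r := by
    refine ⟨(LinearMap.ker p).liftQ (LinearMap.id - i ∘ₗ r) ?_ ∘ₗ
      (p.quotKerEquivOfSurjective hp).symm.toLinearMap, ?_⟩
    · intro n hn
      obtain ⟨m, rfl⟩ := (h n).1 hn
      have := LinearMap.congr_fun hr m
      simp only [LinearMap.coe_comp, Function.comp_apply, LinearMap.id_coe, id_eq] at this
      simp [LinearMap.sub_apply, this]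
    · ext n
      have : (p.quotKerEquivOfSurjective hp).symm (p n) = (LinearMap.ker p).mkQ n := by
        rw [LinearEquiv.symm_apply_eq]
        rfl
      simp only [LinearMap.comp_apply, LinearEquiv.coe_coe, this]
      rfl
  obtain ⟨s, hs⟩ := hs
  have hps : p ∘ₗ s = LinearMap.id := by
    ext c
    obtain ⟨n, rfl⟩ := hp c
    have h1 := LinearMap.congr_fun hs n
    simp only [LinearMap.coe_comp, Function.comp_apply, LinearMap.sub_apply, LinearMap.id_coe,
      id_eq] at h1 ⊢
    rw [h1, map_sub, (h (i (r n))).2 ⟨_, rfl⟩, sub_zero]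
  have hproj : Module.Projective R C := Module.Projective.of_split s p hps
  exact ⟨Module.free_of_flat_of_isLocalRing, hfin⟩

/-- Algebra: an injection with projective cokernel stays injective after tensoring. -/
theorem lTensor_injective {R M N C B : Type*} [CommRing R] [AddCommGroup M]
    [Module R M] [AddCommGroup N] [Module R N] [AddCommGroup C] [Module R C] [AddCommGroup B]
    [Module R B] [Module.Projective R C] (i : M →ₗ[R] N) (p : N →ₗ[R] C) (hi : Function.Injective i)
    (h : Function.Exact i p) (hp : Function.Surjective p) :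
    Function.Injective (i.lTensor B) := by
  obtain ⟨s, hs⟩ := Module.projective_lifting_property p LinearMap.id hp
  have hr : ∃ r : N →ₗ[R] M, r ∘ₗ i = LinearMap.id := by
    have key : (Function.Injective i ∧ ∃ l, p ∘ₗ l = LinearMap.id) →
        (Function.Surjective p ∧ ∃ l, l ∘ₗ i = LinearMap.id) :=
      ((Function.Exact.split_tfae' h).out 0 1).1
    exact (key ⟨hi, s, hs⟩).2
  obtain ⟨r, hr⟩ := hr
  have h2 : r.lTensor B ∘ₗ i.lTensor B = LinearMap.id := by
    rw [← LinearMap.lTensor_comp, hr, LinearMap.lTensor_id]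
  exact Function.LeftInverse.injective (g := r.lTensor B) (fun t => LinearMap.congr_fun h2 t)

/-- A monomorphism with finite locally free cokernel is universally a monomorphism. -/
theorem mono_pullback {U E : X.Modules} (ι : U ⟶ E) [Mono ι]
    (hC : FlatMod.IsFinLocFree (cokernel ι)) (T : Scheme.{u}) (f : T ⟶ X) :
    Mono ((Scheme.Modules.pullback f).map ι) := by
  rw [mono_iff_stalkLin]
  intro t
  rw [stalkLin_pullback_injective_iff]
  let := stalkAlg f t
  obtain ⟨hfree, hfin⟩ := FF_of_isFinLocFree hC (f t)
  have : Module.Projective (X.presheaf.stalk (f t)) ((cokernel ι).presheaf.stalk (f t)) :=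
    Module.Projective.of_free
  exact lTensor_injective (stalkLin ι (f t)) (stalkLin (cokernel.π ι) (f t))
    (stalkLin_injective ι _) (stalk_cokernel_exact ι _) (stalkLin_surjective (cokernel.π ι) _)

/-- Algebra: if `φ` becomes injective after base change to a field `B` along a local homomorphism,
then so it does after base change to the residue field. -/
theorem residue_injective {A B M N : Type*} [CommRing A] [CommRing B] [IsLocalRing A]
    [Algebra A B] [IsLocalHom (algebraMap A B)] [AddCommGroup M] [Module A M]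
    [AddCommGroup N] [Module A N] (hB : IsField B) (φ : M →ₗ[A] N)
    (h : Function.Injective (φ.lTensor B)) :
    Function.Injective (φ.lTensor (IsLocalRing.ResidueField A)) := by
  let κ := IsLocalRing.ResidueField A
  have hker : ∀ a : A, a ∈ IsLocalRing.maximalIdeal A → algebraMap A B a = 0 := by
    intro a ha
    by_contra h0
    obtain ⟨b, hb⟩ := hB.mul_inv_cancel h0
    have h1 : IsUnit (algebraMap A B a) := IsUnit.of_mul_eq_one b hb
    exact ha (isUnit_of_map_unit (algebraMap A B) a h1)
  let f : κ →+* B := Ideal.Quotient.lift _ (algebraMap A B) hker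
  let : Algebra κ B := f.toAlgebra
  have : IsScalarTower A κ B := IsScalarTower.of_algebraMap_eq fun a => rfl
  have : Nontrivial B := hB.nontrivial
  obtain ⟨r, hr⟩ := LinearMap.exists_leftInverse_of_injective (Algebra.linearMap κ B)
    (LinearMap.ker_eq_bot.2 (FaithfulSMul.algebraMap_injective κ B))
  let j : κ →ₗ[A] B := (Algebra.linearMap κ B).restrictScalars A
  let r' : B →ₗ[A] κ := r.restrictScalars A
  have hrj : r' ∘ₗ j = LinearMap.id := by
    ext x
    exact LinearMap.congr_fun hr _
  have hj : ∀ (P : Type _) [AddCommGroup P] [Module A P], Function.Injective (j.rTensor P) := by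
    intro P _ _
    have h2 : r'.rTensor P ∘ₗ j.rTensor P = LinearMap.id := by
      rw [← LinearMap.rTensor_comp, hrj, LinearMap.rTensor_id]
    exact Function.LeftInverse.injective (g := r'.rTensor P) (fun t => LinearMap.congr_fun h2 t)
  have hcomm : j.rTensor N ∘ₗ φ.lTensor κ = φ.lTensor B ∘ₗ j.rTensor M := by
    rw [LinearMap.rTensor_comp_lTensor, LinearMap.lTensor_comp_rTensor]
  have h3 : Function.Injective (φ.lTensor B ∘ₗ j.rTensor M) := h.comp (hj M)
  rw [← hcomm] at h3
  exact Function.Injective.of_comp h3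

/-- Fibrewise injectivity implies split injectivity on stalks. -/
theorem split_of_fibre {U E : X.Modules} (hU : CohB1.IsFT U) (hE : FlatMod.IsFinLocFree E)
    (ι : U ⟶ E) (s : X) (h : Mono ((Scheme.Modules.pullback (X.fromSpecResidueField s)).map ι)) :
    ∃ r, r ∘ₗ stalkLin ι s = LinearMap.id := by
  obtain ⟨t, ht⟩ : ∃ t, X.fromSpecResidueField s t = s := by
    have : s ∈ Set.range (X.fromSpecResidueField s) := by
      rw [Scheme.range_fromSpecResidueField]; rfl
    exact this
  suffices H : ∀ s' (hs : X.fromSpecResidueField s t = s'), ∃ r, r ∘ₗ stalkLin ι s' = LinearMap.id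
    from H s ht
  rintro _ rfl
  obtain ⟨hfree, hfin⟩ := FF_of_isFinLocFree hE (X.fromSpecResidueField s t)
  have hU' := stalk_finite U hU (X.fromSpecResidueField s t)
  rw [IsLocalRing.split_injective_iff_lTensor_residueField_injective]
  let := stalkAlg (X.fromSpecResidueField s) t
  have : IsLocalHom (algebraMap (X.presheaf.stalk (X.fromSpecResidueField s t))
    ((Spec (X.residueField s)).presheaf.stalk t)) :=
    inferInstanceAs (IsLocalHom ((X.fromSpecResidueField s).stalkMap t).hom)
  refine residue_injective (B := (Spec (X.residueField s)).presheaf.stalk t)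
    (Groth.Agent.CycB.FiberKer.isField_stalk_Spec_of_isField _ (Field.toIsField _) t) _ ?_
  rw [mono_iff_stalkLin] at h
  exact (stalkLin_pullback_injective_iff _ ι t).1 (h t)

theorem main {U E : X.Modules} (hU : CohB1.IsFT U) (hE : FlatMod.IsFinLocFree E) (ι : U ⟶ E)
    (h : ∀ s : X, Mono ((Scheme.Modules.pullback (X.fromSpecResidueField s)).map ι)) :
    Mono ι ∧ FlatMod.IsFinLocFree (cokernel ι) := by
  have hs := fun s => split_of_fibre hU hE ι s (h s)
  constructor
  · rw [mono_iff_stalkLin]
    intro x
    obtain ⟨r, hr⟩ := hs x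
    exact Function.LeftInverse.injective (g := r) (fun t => LinearMap.congr_fun hr t)
  · refine isFinLocFree_cokernel hU hE ι fun x => ?_
    obtain ⟨r, hr⟩ := hs x
    obtain ⟨hfree, hfin⟩ := FF_of_isFinLocFree hE x
    exact free_of_exact_split _ _ (stalk_cokernel_exact ι x) (stalkLin_surjective (cokernel.π ι) x)
      r hr

end K654.MonoLF
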