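import Groth.Agent.Ega1.FTStalkFin
import Groth.Agent.PerfC.FlatExact
import Groth.Agent.CohqB.LocalQC

/-!
# Injectivity and surjectivity of pulled back maps on stalks; openness of the epi locus
-/

set_option autoImplicit false
universe u

open CategoryTheory CategoryTheory.Limits AlgebraicGeometry TopologicalSpace
open Groth.Agent.CycB.StalkExact Groth.Agent.Fdesc.PullbackStalk Groth.Agent.PerfC.FlatExact
open Groth.Agent.Ega1.FTStalkFin
open scoped TensorProduct

namespace K654.StalkPull

variable {X Y : Scheme.{u}}

/-- The pulled back map is surjective on stalks if the original map is. -/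
theorem stalkLin_pullback_surjective (f : X ⟶ Y) {M N : Y.Modules} (φ : M ⟶ N) (x : X)
    (h : Function.Surjective (stalkLin φ (f x))) :
    Function.Surjective (stalkLin ((Scheme.Modules.pullback f).map φ) x) := by
  let := stalkAlg f x
  intro b
  obtain ⟨b, rfl⟩ := (stalkPullbackEquiv f N x).surjective b
  obtain ⟨a, ha⟩ := LinearMap.lTensor_surjective (X.presheaf.stalk x) h b
  exact ⟨stalkPullbackEquiv f M x a, (stalkLin_pullback f φ x a).trans (by rw [← ha])⟩

/-- Injectivity of a pulled back map on stalks is injectivity of the base changed stalk map. -/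
theorem stalkLin_pullback_injective_iff (f : X ⟶ Y) {M N : Y.Modules} (φ : M ⟶ N) (x : X) :
    Function.Injective (stalkLin ((Scheme.Modules.pullback f).map φ) x) ↔
      letI := stalkAlg f x
      Function.Injective ((stalkLin φ (f x)).lTensor (X.presheaf.stalk x)) := by
  let := stalkAlg f x
  constructor
  · intro h a b hab
    apply (stalkPullbackEquiv f M x).injective
    apply h
    rw [stalkLin_pullback, stalkLin_pullback]
    exact congrArg _ hab
  · intro h a b hab
    obtain ⟨a, rfl⟩ := (stalkPullbackEquiv f M x).surjective a
    obtain ⟨b, rfl⟩ := (stalkPullbackEquiv f M x).surjective b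
    rw [stalkLin_pullback, stalkLin_pullback, EmbeddingLike.apply_eq_iff_eq] at hab
    exact congrArg _ (h hab)

/-- The stalk of the cokernel vanishes iff the map on stalks is surjective. -/
theorem subsingleton_stalk_cokernel_iff {M N : X.Modules} (φ : M ⟶ N) (x : X) :
    Subsingleton ((cokernel φ).presheaf.stalk x) ↔ Function.Surjective (stalkLin φ x) := by
  have hex : (ShortComplex.mk φ (cokernel.π φ) (cokernel.condition φ)).Exact :=
    ShortComplex.exact_of_g_is_cokernel _ (cokernelIsCokernel φ)
  have h1 := stalkLin_exact _ hex x
  constructor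
  · intro h b
    exact (h1 b).1 (Subsingleton.elim _ _)
  · intro h
    have key : ∀ a : (cokernel φ).presheaf.stalk x, a = 0 := by
      intro a
      obtain ⟨a, rfl⟩ := stalkLin_surjective (cokernel.π φ) x a
      exact (h1 a).2 (h a)
    exact ⟨fun a b => (key a).trans (key b).symm⟩

/-- The locus where a map to a module of finite type is surjective on stalks is open. -/
theorem isOpen_surjective {E F : X.Modules} (hF : CohB1.IsFT F) (v : E ⟶ F) :
    IsOpen {x : X | Function.Surjective (stalkLin v x)} := by
  have h := Groth.Agent.CohqA.FTStalk.isOpen_setOf_subsingleton_stalk (cokernel v)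
    (Groth.Agent.CohqB.LocalQC.isFT_of_epi (cokernel.π v) hF)
  convert h using 1
  ext x
  exact (subsingleton_stalk_cokernel_iff v x).symm

/-- The epi locus of a map to a module of finite type represents the functor of maps `f` such that
`f^* v` is an epimorphism. -/
theorem exists_opens {E F : X.Modules} (hF : CohB1.IsFT F) (v : E ⟶ F) :
    ∃ U : X.Opens, ∀ (T : Scheme.{u}) (f : T ⟶ X),
      Set.range f.base ⊆ (U : Set X) ↔ Epi ((Scheme.Modules.pullback f).map v) := by
  refine ⟨⟨_, isOpen_surjective hF v⟩, fun T f => ?_⟩
  rw [epi_iff_stalkLin, Set.range_subset_iff]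
  refine forall_congr' fun t => ⟨fun h => stalkLin_pullback_surjective f v t h, fun h => ?_⟩
  have h1 := stalkMap_surjective_of_pullback f v t (stalk_finite F hF _) (by
    rw [stalkMap_eq_stalkLin]; exact h)
  rw [stalkMap_eq_stalkLin] at h1
  exact h1

end K654.StalkPull
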