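import Groth.Agent.RepF.K654.ConIdeal
import Groth.Agent.RepF.K654.StalkPull
import Groth.Agent.VarietyB.PullSec
import Groth.Agent.Desc.FinLocFreeSections

/-!
# The zero scheme of a homomorphism to a finite locally free module
-/

set_option autoImplicit false
universe u

open CategoryTheory CategoryTheory.Limits AlgebraicGeometry TopologicalSpace
open Groth.Agent.CycB.StalkExact Groth.Agent.Fdesc.PullbackStalk Groth.Agent.PerfC.FlatExact
open Groth.Agent.Ega1.FTStalkFin K654.StalkPull K654.ConIdeal Groth.Agent.Fdesc.Skyscraper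
open scoped TensorProduct

namespace K654.VanIdeal

variable {X : Scheme.{u}}

/-- Sections of a morphism as a linear map. -/
noncomputable def appₗ {E F : X.Modules} (v : E ⟶ F) (W : X.Opens) :
    Γ(E, W) →ₗ[Γ(X, W)] Γ(F, W) where
  toFun := v.app W
  map_add' := map_add _
  map_smul' r e := Scheme.Modules.Hom.app_smul v r e

theorem appₗ_apply {E F : X.Modules} (v : E ⟶ F) (W : X.Opens) (e : Γ(E, W)) :
    appₗ v W e = v.app W e := rfl

theorem finite_projective_sections {F : X.Modules} (hq : Coh.IsQCoh F)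
    (hF : FlatMod.IsFinLocFree F) {W : X.Opens} (hW : IsAffineOpen W) :
    Module.Finite Γ(X, W) Γ(F, W) ∧ Module.Projective Γ(X, W) Γ(F, W) := by
  have h := (Groth.Agent.Desc.FinLocFreeSections.isFinLocFree_iff_of_cover hq (fun _ => True)
    (fun x => by
      obtain ⟨V, hV, hx, -⟩ := exists_isAffineOpen_mem_and_subset (x := x) (U := ⊤) trivial
      exact ⟨V, trivial, hV, hx⟩)).1 hF W trivial hW
  obtain ⟨h1, h2⟩ := h
  exact ⟨inferInstance, Module.Flat.projective_of_finitePresentation⟩

/-- The ideal sheaf of the zero scheme of a homomorphism to a finite locally free module. -/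
noncomputable def vanIdeal {E F : X.Modules} (hE : Coh.IsQCoh E) (hq : Coh.IsQCoh F)
    (hF : FlatMod.IsFinLocFree F) (v : E ⟶ F) : X.IdealSheafData where
  ideal W := conIdeal (appₗ v W)
  map_ideal_basicOpen := by
    intro W f
    obtain ⟨h1, h2⟩ := finite_projective_sections hq hF W.2
    have hle : X.basicOpen f ≤ W.1 := X.basicOpen_le f
    let : Algebra Γ(X, W) Γ(X, X.basicOpen f) :=
      (X.presheaf.map (homOfLE hle).op).hom.toAlgebra
    let := Groth.Agent.Fdesc.QCohStalk.resModule E hle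
    let := Groth.Agent.Fdesc.QCohStalk.resModule F hle
    have : IsScalarTower Γ(X, W) Γ(X, X.basicOpen f) Γ(E, X.basicOpen f) :=
      ⟨fun a b c => by rw [Algebra.smul_def, mul_smul]; rfl⟩
    have : IsScalarTower Γ(X, W) Γ(X, X.basicOpen f) Γ(F, X.basicOpen f) :=
      ⟨fun a b c => by rw [Algebra.smul_def, mul_smul]; rfl⟩
    have hloc : IsLocalization.Away f Γ(X, X.basicOpen f) := W.2.isLocalization_basicOpen f
    have h3 := Groth.Agent.Fdesc.QCohStalk.isLocalizedModule_res E W.2 hE f
    have h4 := Groth.Agent.Fdesc.QCohStalk.isLocalizedModule_res F W.2 hq f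
    have h5 := (isLocalizedModule_iff_isBaseChange (.powers f) Γ(X, X.basicOpen f) _).1 h3
    have h6 := (isLocalizedModule_iff_isBaseChange (.powers f) Γ(X, X.basicOpen f) _).1 h4
    refine map_conIdeal (appₗ v W) _ h5 _ h6 (appₗ v (X.basicOpen f)) fun e => ?_
    exact (ConcreteCategory.congr_hom (v.mapPresheaf.naturality (homOfLE hle).op) e)

/-- The map on a stalk of the pullback vanishes iff the coordinates vanish in the local ring. -/
theorem stalkMap_pullback_eq_zero_iff {E F : X.Modules} (hE : Coh.IsQCoh E) (hq : Coh.IsQCoh F)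
    (hF : FlatMod.IsFinLocFree F) (v : E ⟶ F) {T : Scheme.{u}} (f : T ⟶ X) (t : T)
    {W : X.Opens} (hW : IsAffineOpen W) (ht : f.base t ∈ W) :
    stalkMap ((Scheme.Modules.pullback f).map v) t = 0 ↔
      conIdeal (appₗ v W) ≤
        RingHom.ker ((f.stalkMap t).hom.comp (X.presheaf.germ W (f.base t) ht).hom) := by
  obtain ⟨h1, h2⟩ := finite_projective_sections hq hF hW
  let : Algebra Γ(X, W) (T.presheaf.stalk t) :=
    ((f.stalkMap t).hom.comp (X.presheaf.germ W (f.base t) ht).hom).toAlgebra
  let : Module Γ(X, W) (((Scheme.Modules.pullback f).obj F).presheaf.stalk t) :=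
    Module.compHom _ ((f.stalkMap t).hom.comp (X.presheaf.germ W (f.base t) ht).hom)
  let : Module Γ(X, W) (((Scheme.Modules.pullback f).obj E).presheaf.stalk t) :=
    Module.compHom _ ((f.stalkMap t).hom.comp (X.presheaf.germ W (f.base t) ht).hom)
  have : IsScalarTower Γ(X, W) (T.presheaf.stalk t)
      (((Scheme.Modules.pullback f).obj F).presheaf.stalk t) := ⟨fun a b c => by
        rw [Algebra.smul_def, mul_smul]; rfl⟩
  have : IsScalarTower Γ(X, W) (T.presheaf.stalk t)
      (((Scheme.Modules.pullback f).obj E).presheaf.stalk t) := ⟨fun a b c => by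
        rw [Algebra.smul_def, mul_smul]; rfl⟩
  obtain ⟨gF, hgF, hF'⟩ := Groth.Agent.VarietyB.PullSec.isBaseChange_can_germ f F hq hW t ht
  obtain ⟨gE, hgE, hE'⟩ := Groth.Agent.VarietyB.PullSec.isBaseChange_can_germ f E hE hW t ht
  have key : ∀ e, stalkMap ((Scheme.Modules.pullback f).map v) t (gE e) = gF (appₗ v W e) := by
    intro e
    rw [hgE, hgF, stalkMap_pullback_canAdd, stalkMap_germ]
    rfl
  rw [show RingHom.ker ((f.stalkMap t).hom.comp (X.presheaf.germ W (f.base t) ht).hom) =
    RingHom.ker (algebraMap Γ(X, W) (T.presheaf.stalk t)) from rfl, ← map_eq_zero_iff _ gF hF']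
  constructor
  · intro h e
    rw [← key, h, LinearMap.zero_apply]
  · intro h
    refine LinearMap.ext fun m => ?_
    rw [LinearMap.zero_apply]
    induction m using hE'.inductionOn with
    | zero => exact map_zero _
    | tmul m => rw [key, h]
    | smul b m hm => rw [map_smul, hm, smul_zero]
    | add a b ha hb => rw [map_add, ha, hb, add_zero]

/-- A morphism of modules is zero iff it is zero on stalks. -/
theorem eq_zero_iff {T : Scheme.{u}} {M N : T.Modules} (φ : M ⟶ N) :
    φ = 0 ↔ ∀ t, stalkMap φ t = 0 := by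
  have h0 : ∀ t, stalkMap (0 : M ⟶ N) t = 0 := fun t => by
    refine LinearMap.ext fun m => ?_
    obtain ⟨V, hV, s, rfl⟩ := TopCat.Presheaf.exists_germ_eq M.presheaf m
    rw [stalkMap_germ, LinearMap.zero_apply]
    exact map_zero _
  constructor
  · rintro rfl
    exact h0
  · intro h
    exact hom_ext_stalk φ 0 fun t => by rw [h, h0]

theorem pullback_map_eq_zero_iff {E F : X.Modules} (hE : Coh.IsQCoh E) (hq : Coh.IsQCoh F)
    (hF : FlatMod.IsFinLocFree F) (v : E ⟶ F) {T : Scheme.{u}} (f : T ⟶ X) :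
    (Scheme.Modules.pullback f).map v = 0 ↔ vanIdeal hE hq hF v ≤ f.ker := by
  rw [eq_zero_iff, Scheme.Hom.ker, Scheme.IdealSheafData.le_ofIdeals_iff]
  constructor
  · intro h W a ha
    rw [RingHom.mem_ker]
    refine TopCat.Presheaf.section_ext (X := T.carrier) T.sheaf (f ⁻¹ᵁ W) _ _ fun t ht => ?_
    have h1 := (stalkMap_pullback_eq_zero_iff hE hq hF v f t W.2 ht).1 (h t) ha
    rw [RingHom.mem_ker] at h1
    refine Eq.trans ?_ (map_zero _).symm
    refine Eq.trans ?_ h1
    exact (Scheme.Hom.germ_stalkMap_apply f W.1 t ht a).symm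
  · intro h t
    obtain ⟨W, hW, ht, -⟩ := exists_isAffineOpen_mem_and_subset (x := f.base t) (U := ⊤) trivial
    rw [stalkMap_pullback_eq_zero_iff hE hq hF v f t hW ht]
    intro a ha
    have h1 := h ⟨W, hW⟩ ha
    rw [RingHom.mem_ker] at h1 ⊢
    refine (Scheme.Hom.germ_stalkMap_apply f W t ht a).trans ?_
    have h2 : f.app W a = 0 := h1
    rw [h2, map_zero]

theorem main {E F : X.Modules} (hE : Coh.IsQCoh E) (hq : Coh.IsQCoh F)
    (hF : FlatMod.IsFinLocFree F) (v : E ⟶ F) :
    ∃ I : X.IdealSheafData, ∀ (T : Scheme.{u}) (f : T ⟶ X),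
      (∃ g : T ⟶ I.subscheme, g ≫ I.subschemeι = f) ↔ (Scheme.Modules.pullback f).map v = 0 := by
  refine ⟨vanIdeal hE hq hF v, fun T f => ?_⟩
  rw [pullback_map_eq_zero_iff hE hq hF v f]
  constructor
  · rintro ⟨g, rfl⟩
    have := Scheme.Hom.le_ker_comp g (vanIdeal hE hq hF v).subschemeι
    rwa [Scheme.IdealSheafData.ker_subschemeι] at this
  · intro h
    exact ⟨IsClosedImmersion.lift (vanIdeal hE hq hF v).subschemeι f
      (by rwa [Scheme.IdealSheafData.ker_subschemeι]), IsClosedImmersion.lift_fac _ _ _⟩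

end K654.VanIdeal
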