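import Mathlib.RingTheory.TensorProduct.IsBaseChangeHom
import Mathlib.Algebra.Module.Projective
import Mathlib.RingTheory.Finiteness.Projective

/-!
# The ideal of coordinates of a linear map to a finite projective module
-/

set_option autoImplicit false

namespace K654.ConIdeal

variable {A : Type*} [CommRing A] {M N : Type*} [AddCommGroup M] [Module A M] [AddCommGroup N]
  [Module A N]

/-- The ideal generated by the values of linear forms on the image of a linear map. -/
def conIdeal (v : M →ₗ[A] N) : Ideal A :=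
  Ideal.span {a | ∃ (φ : N →ₗ[A] A) (e : M), a = φ (v e)}

theorem mem_conIdeal (v : M →ₗ[A] N) (φ : N →ₗ[A] A) (e : M) : φ (v e) ∈ conIdeal v :=
  Ideal.subset_span ⟨φ, e, rfl⟩

theorem exists_dual [Module.Finite A N] [Module.Projective A N] :
    ∃ (n : ℕ) (x : Fin n → N) (ξ : Fin n → (N →ₗ[A] A)), ∀ y, y = ∑ i, ξ i y • x i := by
  obtain ⟨n, f, hf⟩ := Module.Finite.exists_fin' A N
  obtain ⟨s, hs⟩ := Module.projective_lifting_property f LinearMap.id hf
  refine ⟨n, fun i => f (Pi.single i 1), fun i => LinearMap.proj i ∘ₗ s, fun y => ?_⟩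
  have h1 : f (s y) = y := LinearMap.congr_fun hs y
  have h2 : s y = ∑ i, (s y i) • (Pi.single i (1 : A) : Fin n → A) := by
    funext j
    simp [Pi.single_apply]
  conv_lhs => rw [← h1, h2, map_sum]
  simp

variable {B : Type*} [CommRing B] [Algebra A B] {M' N' : Type*} [AddCommGroup M'] [AddCommGroup N']
  [Module A M'] [Module B M'] [IsScalarTower A B M'] [Module A N'] [Module B N']
  [IsScalarTower A B N']

theorem map_eq_zero_iff [Module.Finite A N] [Module.Projective A N] (v : M →ₗ[A] N)
    (g : N →ₗ[A] N') (hg : IsBaseChange B g) :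
    (∀ e, g (v e) = 0) ↔ conIdeal v ≤ RingHom.ker (algebraMap A B) := by
  constructor
  · intro h
    refine Ideal.span_le.2 ?_
    rintro _ ⟨φ, e, rfl⟩
    have h1 : hg.lift (Algebra.linearMap A B ∘ₗ φ) (g (v e)) = algebraMap A B (φ (v e)) :=
      hg.lift_eq _ _
    rw [h, map_zero] at h1
    exact h1.symm
  · intro h e
    obtain ⟨n, x, ξ, hx⟩ := exists_dual (A := A) (N := N)
    rw [hx (v e), map_sum]
    refine Finset.sum_eq_zero fun i _ => ?_
    have h1 : algebraMap A B (ξ i (v e)) = 0 := h (mem_conIdeal v _ e)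
    rw [map_smul, ← algebraMap_smul B, h1, zero_smul]

theorem map_conIdeal [Module.Finite A N] [Module.Projective A N] (v : M →ₗ[A] N)
    (h : M →ₗ[A] M') (hh : IsBaseChange B h) (g : N →ₗ[A] N') (hg : IsBaseChange B g)
    (v' : M' →ₗ[B] N') (hv : ∀ e, v' (h e) = g (v e)) :
    (conIdeal v).map (algebraMap A B) = conIdeal v' := by
  apply le_antisymm
  · rw [conIdeal, Ideal.map_span, Ideal.span_le]
    rintro _ ⟨_, ⟨φ, e, rfl⟩, rfl⟩
    have h1 : hg.lift (Algebra.linearMap A B ∘ₗ φ) (g (v e)) = algebraMap A B (φ (v e)) :=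
      hg.lift_eq _ _
    rw [← hv] at h1
    rw [← h1]
    exact mem_conIdeal v' _ _
  · refine Ideal.span_le.2 ?_
    rintro _ ⟨ψ, m', rfl⟩
    obtain ⟨n, x, ξ, hx⟩ := exists_dual (A := A) (N := N)
    induction m' using hh.inductionOn with
    | zero => simp
    | tmul m =>
      rw [hv, hx (v m), map_sum, map_sum]
      refine sum_mem fun i _ => ?_
      rw [map_smul, ← algebraMap_smul B, map_smul, smul_eq_mul]
      exact Ideal.mul_mem_right _ _ (Ideal.mem_map_of_mem _ (mem_conIdeal v _ m))
    | smul b m hm =>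
      rw [map_smul, map_smul, smul_eq_mul]
      exact Ideal.mul_mem_left _ _ hm
    | add a b ha hb =>
      rw [map_add, map_add]
      exact Ideal.add_mem _ ha hb

end K654.ConIdeal
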